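import Cfsg.Agent.BS.Red1

/-! Bender's reduction: the lemma (KK) of `notes/bender_final.md`. -/

set_option autoImplicit false
set_option linter.unusedSectionVars false

namespace Cfsg.Agent.BS

open Subgroup FT MulAction

universe u v

variable {G : Type u} [Group G] [Finite G] {Ω : Type v} [MulAction G Ω]
variable {K A B : Subgroup G} {a : Ω} {z u w x y g : G}

/-- a product of two permutable `p`-groups is a `p`-group -/
theorem isPGroup_of_mul {p : ℕ} [Fact p.Prime] {H : Subgroup G} (hA : IsPGroup p A)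
    (hB : IsPGroup p B) (h1 : A ≤ H) (h2 : B ≤ H) (h : ∀ x ∈ H, ∃ a ∈ A, ∃ b ∈ B, x = a * b) :
    IsPGroup p H := by
  refine (piG_of_relIndex h2 (piG_singleton_iff.2 hB) ?_).isPGroup
  have : B.relIndex A = B.relIndex H := by
    refine Nat.card_eq_of_bijective (quotientSubgroupOfEmbeddingOfLE B h1)
      ⟨(quotientSubgroupOfEmbeddingOfLE B h1).injective, ?_⟩
    rintro ⟨x, hx⟩
    obtain ⟨a, ha, b, hb, rfl⟩ := h x hx
    refine ⟨QuotientGroup.mk ⟨a, ha⟩, ?_⟩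
    rw [quotientSubgroupOfEmbeddingOfLE_apply_mk]
    exact QuotientGroup.eq.2 (by simpa [mem_subgroupOf] using hb)
  rw [← this]
  exact (piG_singleton_iff.2 hA).relIndex B

theorem comm_of_sq (h : ∀ x ∈ A, x * x = 1) (hx : x ∈ A) (hy : y ∈ A) : x * y = y * x := by
  rw [eq_inv_of_mul_eq_one_left (h _ (mul_mem hx hy)), mul_inv_rev,
    inv_eq_of_mul_eq_one_right (h _ hx), inv_eq_of_mul_eq_one_right (h _ hy)]

theorem isPGroup_of_sq (h : ∀ x ∈ A, x * x = 1) : IsPGroup 2 A :=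
  fun x => ⟨1, Subtype.ext (by simpa [pow_two] using h x.1 x.2)⟩

theorem conj_comm (g : G) (h : x * y = y * x) :
    g * x * g⁻¹ * (g * y * g⁻¹) = g * y * g⁻¹ * (g * x * g⁻¹) := by rw [conj_mul, conj_mul, h]

variable [OneFix G Ω]

/-- the hypothesis of (KK) -/
structure KK (K : Subgroup G) (a : Ω) : Prop where
  le : K ≤ St G a
  reg : ∀ k ∈ K, ∀ z, Zi a z → k * z = z * k → k = 1
  cl : ∀ z, Zi a z → ∀ k ∈ K, k ≠ 1 → ∃ l ∈ K, z * (k * z * k⁻¹) = l * z * l⁻¹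

namespace KK

/-- an orbit together with `1` -/
def P (h : KK K a) (hz : Zi a z) : Subgroup G where
  carrier := {x | x = 1 ∨ ∃ k ∈ K, k * z * k⁻¹ = x}
  one_mem' := Or.inl rfl
  mul_mem' := by
    rintro _ _ (rfl | ⟨k, hk, rfl⟩) hy
    · rwa [one_mul]
    rcases hy with rfl | ⟨l, hl, rfl⟩
    · exact Or.inr ⟨k, hk, (mul_one _).symm⟩
    by_cases e : k⁻¹ * l = 1
    · rw [← inv_mul_eq_one.1 e]; exact Or.inl (sq1 (ord2_conj hz.ord k))
    · obtain ⟨j, hj, e1⟩ := h.cl z hz _ (mul_mem (inv_mem hk) hl) e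
      refine Or.inr ⟨k * j, mul_mem hk hj, ?_⟩
      calc _ = k * (j * z * j⁻¹) * k⁻¹ := by group
        _ = _ := by rw [← e1]; group
  inv_mem' := by
    rintro _ (rfl | ⟨k, hk, rfl⟩)
    · exact Or.inl inv_one
    · exact Or.inr ⟨k, hk, (inv2 (ord2_conj hz.ord k)).symm⟩

variable (h : KK K a)
include h

theorem mem_P (hz : Zi a z) : x ∈ h.P hz ↔ x = 1 ∨ ∃ k ∈ K, k * z * k⁻¹ = x := Iff.rfl
theorem sq (hz : Zi a z) : ∀ x ∈ h.P hz, x * x = 1 := by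
  rintro _ (rfl | ⟨k, -, rfl⟩)
  exacts [one_mul _, sq1 (ord2_conj hz.ord k)]
theorem conj_mem (hz : Zi a z) (hg : g ∈ K) (hx : x ∈ h.P hz) : g * x * g⁻¹ ∈ h.P hz := by
  rcases hx with rfl | ⟨k, hk, rfl⟩
  · simp
  · exact Or.inr ⟨g * k, mul_mem hg hk, by group⟩
/-- if one nontrivial element of a part centralizes a `K`-invariant set, all do -/
theorem comm_all (hz : Zi a z) (hu : Zi a u) (hx : x ∈ h.P hz) (h1 : x ≠ 1)
    (hc : ∀ y ∈ h.P hu, x * y = y * x) {x' : G} (hx' : x' ∈ h.P hz) (hy : y ∈ h.P hu) :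
    x' * y = y * x' := by
  obtain ⟨k, hk, rfl⟩ := hx.resolve_left h1
  rcases hx' with rfl | ⟨l, hl, rfl⟩
  · simp
  have := conj_comm (l * k⁻¹) (hc _ (h.conj_mem hu (inv_mem (mul_mem hl (inv_mem hk))) hy))
  rwa [show l * k⁻¹ * (k * z * k⁻¹) * (l * k⁻¹)⁻¹ = l * z * l⁻¹ by group,
    show l * k⁻¹ * ((l * k⁻¹)⁻¹ * y * (l * k⁻¹)⁻¹⁻¹) * (l * k⁻¹)⁻¹ = y by group] at this

theorem comm_of_comm (hu : Zi a u) (hw : Zi a w) (hc : u * w = w * u) (hx : x ∈ h.P hu)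
    (hy : y ∈ h.P hw) : x * y = y * x := by
  by_cases e : u = w
  · subst e; exact comm_of_sq (h.sq hu) hx hy
  have hs := hu.mul hw e hc
  have key : ∀ x ∈ h.P hu, ∀ y ∈ h.P hw, ∃ x' ∈ h.P hu, ∃ y' ∈ h.P hw, y * x = x' * y' := by
    rintro x hx y hy
    rcases hx with rfl | ⟨l, hl, rfl⟩
    · exact ⟨1, one_mem _, y, hy, by simp⟩
    rcases hy with rfl | ⟨k, hk, rfl⟩
    · exact ⟨_, Or.inr ⟨l, hl, rfl⟩, 1, one_mem _, by simp⟩
    have a1 : k * u * k⁻¹ ∈ h.P hu := Or.inr ⟨k, hk, rfl⟩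
    have a2 : l * w * l⁻¹ ∈ h.P hw := Or.inr ⟨l, hl, rfl⟩
    have a3 : k * w * k⁻¹ * (l * u * l⁻¹) = k * u * k⁻¹ * (k * (u * w) * k⁻¹ * (l * (u * w) * l⁻¹)) *
        (l * w * l⁻¹) := by
      rw [← conj_mul, ← conj_mul]
      have a4 := h.sq hu _ a1
      have a5 := h.sq hw _ a2
      generalize k * u * k⁻¹ = A at *
      generalize l * w * l⁻¹ = B at *
      calc _ = A * A * (k * w * k⁻¹ * (l * u * l⁻¹)) * (B * B) := by rw [a4, a5, one_mul, mul_one]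
        _ = _ := by simp only [mul_assoc]
    rcases mul_mem (show _ ∈ h.P hs from Or.inr ⟨k, hk, rfl⟩)
      (show _ ∈ h.P hs from Or.inr ⟨l, hl, rfl⟩) with e1 | ⟨j, hj, e1⟩
    · exact ⟨_, a1, _, a2, by rw [a3, e1, mul_one]⟩
    · exact ⟨_, mul_mem a1 (Or.inr ⟨j, hj, rfl⟩), _, mul_mem (Or.inr ⟨j, hj, rfl⟩) a2, by
        rw [a3, ← e1, ← conj_mul]; simp only [mul_assoc]⟩
  let H : Subgroup G :=
    { carrier := {g | ∃ x ∈ h.P hu, ∃ y ∈ h.P hw, g = x * y}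
      one_mem' := ⟨1, one_mem _, 1, one_mem _, by simp⟩
      mul_mem' := by
        rintro _ _ ⟨x, hx, y, hy, rfl⟩ ⟨x', hx', y', hy', rfl⟩
        obtain ⟨x2, h1, y2, h2, e⟩ := key x' hx' y hy
        exact ⟨_, mul_mem hx h1, _, mul_mem h2 hy', by
          rw [mul_assoc, ← mul_assoc y, e]; simp only [mul_assoc]⟩
      inv_mem' := by
        rintro _ ⟨x, hx, y, hy, rfl⟩
        rw [mul_inv_rev]
        exact key _ (inv_mem hx) _ (inv_mem hy) }
  have b1 : h.P hu ≤ H := fun x hx => ⟨x, hx, 1, one_mem _, (mul_one _).symm⟩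
  have b2 : h.P hw ≤ H := fun x hx => ⟨1, one_mem _, x, hx, (one_mul _).symm⟩
  obtain ⟨_, ⟨x', c1, y', c2, rfl⟩, c3, c4⟩ := H3.exists_central_involution
    (isPGroup_of_mul (isPGroup_of_sq (h.sq hu)) (isPGroup_of_sq (h.sq hw)) b1 b2 fun _ h => h)
    (ne_bot_of_mem (b1 (Or.inr ⟨1, one_mem _, rfl⟩)) (conj_ne_one (ne1 hu.ord)))
  by_cases e1 : y' = 1
  · subst e1
    rw [mul_one] at c3 c4
    exact h.comm_all hu hw c1 (ne1 c3) (fun y hy => (c4 y (b2 hy)).symm) hx hy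
  · refine (h.comm_all hw hu c2 e1 (fun v hv => ?_) hy hx).symm
    have := c4 v (b1 hv)
    rw [← mul_assoc, comm_of_sq (h.sq hu) hv c1, mul_assoc, mul_assoc] at this
    exact (mul_left_cancel this).symm

/-- (KK) -/
theorem comm (h0 : K ≠ ⊥) (htr : ∀ z z', Zi a z → Zi a z' → ∃ g ∈ St G a, g * z * g⁻¹ = z')
    (hz : Zi a z) (hu : Zi a u) : z * u = u * z := by
  let F : G → Prop := fun g => g • a = a ∧ ∀ z y : G, Zi a z → Zi a y →
    (y * z = z * y ↔ y * (g * z * g⁻¹) = g * z * g⁻¹ * y)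
  have Fmul : ∀ g g', F g → F g' → F (g * g') := fun g g' h1 h2 =>
    ⟨by rw [mul_smul, h2.1, h1.1], fun z y hz hy => by
      rw [h2.2 z y hz hy, h1.2 _ y (hz.conj_of_fix h2.1) hy, mul_inv_rev]
      simp only [mul_assoc]⟩
  have Fconj : ∀ g c, F g → c • a = a → F (c * g * c⁻¹) := fun g c h1 h2 =>
    ⟨by rw [mul_smul, mul_smul, inv_fix h2, h1.1, h2], fun z y hz hy => by
      have := h1.2 _ _ (hz.conj_of_fix (inv_fix h2)) (hy.conj_of_fix (inv_fix h2))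
      refine ⟨fun e => ?_, fun e => ?_⟩
      · have e1 := conj_comm c (this.1 (conj_comm c⁻¹ e))
        convert e1 using 1 <;> group
      · have e1 := conj_comm c (this.2 (by convert conj_comm c⁻¹ e using 1 <;> group))
        convert e1 using 1 <;> group⟩
  have FK : ∀ k ∈ K, F k := fun k hk => ⟨h.le hk, fun z y hz hy => ⟨fun e =>
    h.comm_of_comm hy hz e (Or.inr ⟨1, one_mem _, by simp⟩) (Or.inr ⟨k, hk, rfl⟩), fun e =>
    h.comm_of_comm hy (hz.conj_of_fix (h.le hk)) e (Or.inr ⟨1, one_mem _, by simp⟩)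
      (Or.inr ⟨k⁻¹, inv_mem hk, by group⟩)⟩⟩
  obtain ⟨k, hk, hk1⟩ := exists_ne_one_of_ne_bot h0
  obtain ⟨l, hl, e⟩ := h.cl z hz k hk hk1
  have F1 : F (l * z * l⁻¹) := by
    have := Fmul _ _ (Fconj _ z (FK k hk) hz.fix) (FK _ (inv_mem hk))
    rwa [inv2 hz.ord, show z * k * z * k⁻¹ = z * (k * z * k⁻¹) by group, e] at this
  obtain ⟨g, hg, e1⟩ := htr _ u (hz.conj_of_fix (h.le hl)) hu
  have F2 := (Fconj _ g F1 hg).2
  rw [e1, inv2 hu.ord] at F2
  have c1 := (F2 z z hz hz).1 rfl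
  have hu' : Zi a (u * z * u) := by simpa only [inv2 hu.ord] using hz.conj_of_fix hu.fix
  by_contra hne
  have hs := hz.mul hu' (fun e => hne (by
    conv_rhs => rw [e]
    rw [← mul_assoc, ← mul_assoc, sq1 hu.ord, one_mul])) c1
  obtain ⟨c, hc, e2⟩ := htr _ _ hz hs
  have key : {y | Zi a y ∧ y * z = z * y} = {y | Zi a y ∧ y * (z * (u * z * u)) =
      z * (u * z * u) * y} := by
    refine Set.eq_of_subset_of_ncard_le (fun y hy => ⟨hy.1, ?_⟩) (le_of_eq ?_)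
    · rw [← mul_assoc, hy.2, mul_assoc, (F2 z y hz hy.1).1 hy.2, ← mul_assoc]
    · rw [← e2]
      symm
      refine Set.ncard_congr (fun y _ => c * y * c⁻¹)
        (fun y hy => ⟨hy.1.conj_of_fix hc, conj_comm c hy.2⟩) (fun _ _ _ _ e => by simpa using e)
        fun y hy => ⟨c⁻¹ * y * c⁻¹⁻¹, ⟨hy.1.conj_of_fix (inv_fix hc), ?_⟩, by group⟩
      convert conj_comm c⁻¹ hy.2 using 1 <;> group
  have : u ∈ {y | Zi a y ∧ y * z = z * y} := by
    rw [key]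
    refine ⟨hu, ?_⟩
    rw [mul_assoc z, mul_assoc (u * z), sq1 hu.ord, mul_one, c1]
    simp only [← mul_assoc, sq1 hu.ord, one_mul]
  exact hne this.2.symm

end KK

end Cfsg.Agent.BS
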